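import Cfsg.Agent.H29.CosetCert.Suz.Steps0
import Cfsg.Agent.H29.CosetCert.Suz.Steps1
import Cfsg.Agent.H29.CosetCert.Suz.Steps2
import Cfsg.Agent.H29.CosetCert.Suz.Steps3
import Cfsg.Agent.H29.CosetCert.Sound

/-! Certificate data for Suz, produced by a coset enumeration outside Lean and checked here. -/

set_option autoImplicit false
set_option maxRecDepth 4000

namespace H29.CosetCert.SuzData

open H29.CosetCert

theorem deds : ∀ k, nd ≤ k → k < N → ∃ s, chkDed F R S k s = true := by
  intro k h1 h2
  unfold nd at h1
  unfold N at h2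
  by_cases c0 : k < 5826
  · exact chkList_get F R S st0 5570 st0_ok.1 k (by omega) (by rw [st0_ok.2]; omega)
  by_cases c1 : k < 6082
  · exact chkList_get F R S st1 5826 st1_ok.1 k (by omega) (by rw [st1_ok.2]; omega)
  by_cases c2 : k < 6338
  · exact chkList_get F R S st2 6082 st2_ok.1 k (by omega) (by rw [st2_ok.2]; omega)
  by_cases c3 : k < 6594
  · exact chkList_get F R S st3 6338 st3_ok.1 k (by omega) (by rw [st3_ok.2]; omega)
  by_cases c4 : k < 6850
  · exact chkList_get F R S st4 6594 st4_ok.1 k (by omega) (by rw [st4_ok.2]; omega)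
  by_cases c5 : k < 7106
  · exact chkList_get F R S st5 6850 st5_ok.1 k (by omega) (by rw [st5_ok.2]; omega)
  by_cases c6 : k < 7362
  · exact chkList_get F R S st6 7106 st6_ok.1 k (by omega) (by rw [st6_ok.2]; omega)
  by_cases c7 : k < 7618
  · exact chkList_get F R S st7 7362 st7_ok.1 k (by omega) (by rw [st7_ok.2]; omega)
  by_cases c8 : k < 7874
  · exact chkList_get F R S st8 7618 st8_ok.1 k (by omega) (by rw [st8_ok.2]; omega)
  by_cases c9 : k < 8130
  · exact chkList_get F R S st9 7874 st9_ok.1 k (by omega) (by rw [st9_ok.2]; omega)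
  by_cases c10 : k < 8386
  · exact chkList_get F R S st10 8130 st10_ok.1 k (by omega) (by rw [st10_ok.2]; omega)
  by_cases c11 : k < 8642
  · exact chkList_get F R S st11 8386 st11_ok.1 k (by omega) (by rw [st11_ok.2]; omega)
  by_cases c12 : k < 8898
  · exact chkList_get F R S st12 8642 st12_ok.1 k (by omega) (by rw [st12_ok.2]; omega)
  by_cases c13 : k < 9154
  · exact chkList_get F R S st13 8898 st13_ok.1 k (by omega) (by rw [st13_ok.2]; omega)
  by_cases c14 : k < 9410
  · exact chkList_get F R S st14 9154 st14_ok.1 k (by omega) (by rw [st14_ok.2]; omega)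
  by_cases c15 : k < 9666
  · exact chkList_get F R S st15 9410 st15_ok.1 k (by omega) (by rw [st15_ok.2]; omega)
  by_cases c16 : k < 9922
  · exact chkList_get F R S st16 9666 st16_ok.1 k (by omega) (by rw [st16_ok.2]; omega)
  by_cases c17 : k < 10178
  · exact chkList_get F R S st17 9922 st17_ok.1 k (by omega) (by rw [st17_ok.2]; omega)
  by_cases c18 : k < 10434
  · exact chkList_get F R S st18 10178 st18_ok.1 k (by omega) (by rw [st18_ok.2]; omega)
  by_cases c19 : k < 10690
  · exact chkList_get F R S st19 10434 st19_ok.1 k (by omega) (by rw [st19_ok.2]; omega)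
  by_cases c20 : k < 10946
  · exact chkList_get F R S st20 10690 st20_ok.1 k (by omega) (by rw [st20_ok.2]; omega)
  by_cases c21 : k < 11202
  · exact chkList_get F R S st21 10946 st21_ok.1 k (by omega) (by rw [st21_ok.2]; omega)
  by_cases c22 : k < 11458
  · exact chkList_get F R S st22 11202 st22_ok.1 k (by omega) (by rw [st22_ok.2]; omega)
  by_cases c23 : k < 11714
  · exact chkList_get F R S st23 11458 st23_ok.1 k (by omega) (by rw [st23_ok.2]; omega)
  by_cases c24 : k < 11970
  · exact chkList_get F R S st24 11714 st24_ok.1 k (by omega) (by rw [st24_ok.2]; omega)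
  by_cases c25 : k < 12226
  · exact chkList_get F R S st25 11970 st25_ok.1 k (by omega) (by rw [st25_ok.2]; omega)
  by_cases c26 : k < 12482
  · exact chkList_get F R S st26 12226 st26_ok.1 k (by omega) (by rw [st26_ok.2]; omega)
  by_cases c27 : k < 12738
  · exact chkList_get F R S st27 12482 st27_ok.1 k (by omega) (by rw [st27_ok.2]; omega)
  by_cases c28 : k < 12994
  · exact chkList_get F R S st28 12738 st28_ok.1 k (by omega) (by rw [st28_ok.2]; omega)
  by_cases c29 : k < 13250
  · exact chkList_get F R S st29 12994 st29_ok.1 k (by omega) (by rw [st29_ok.2]; omega)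
  by_cases c30 : k < 13506
  · exact chkList_get F R S st30 13250 st30_ok.1 k (by omega) (by rw [st30_ok.2]; omega)
  by_cases c31 : k < 13762
  · exact chkList_get F R S st31 13506 st31_ok.1 k (by omega) (by rw [st31_ok.2]; omega)
  by_cases c32 : k < 14018
  · exact chkList_get F R S st32 13762 st32_ok.1 k (by omega) (by rw [st32_ok.2]; omega)
  by_cases c33 : k < 14274
  · exact chkList_get F R S st33 14018 st33_ok.1 k (by omega) (by rw [st33_ok.2]; omega)
  by_cases c34 : k < 14530
  · exact chkList_get F R S st34 14274 st34_ok.1 k (by omega) (by rw [st34_ok.2]; omega)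
  by_cases c35 : k < 14786
  · exact chkList_get F R S st35 14530 st35_ok.1 k (by omega) (by rw [st35_ok.2]; omega)
  by_cases c36 : k < 15042
  · exact chkList_get F R S st36 14786 st36_ok.1 k (by omega) (by rw [st36_ok.2]; omega)
  by_cases c37 : k < 15298
  · exact chkList_get F R S st37 15042 st37_ok.1 k (by omega) (by rw [st37_ok.2]; omega)
  by_cases c38 : k < 15554
  · exact chkList_get F R S st38 15298 st38_ok.1 k (by omega) (by rw [st38_ok.2]; omega)
  by_cases c39 : k < 15810
  · exact chkList_get F R S st39 15554 st39_ok.1 k (by omega) (by rw [st39_ok.2]; omega)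
  by_cases c40 : k < 16066
  · exact chkList_get F R S st40 15810 st40_ok.1 k (by omega) (by rw [st40_ok.2]; omega)
  by_cases c41 : k < 16322
  · exact chkList_get F R S st41 16066 st41_ok.1 k (by omega) (by rw [st41_ok.2]; omega)
  by_cases c42 : k < 16578
  · exact chkList_get F R S st42 16322 st42_ok.1 k (by omega) (by rw [st42_ok.2]; omega)
  by_cases c43 : k < 16834
  · exact chkList_get F R S st43 16578 st43_ok.1 k (by omega) (by rw [st43_ok.2]; omega)
  by_cases c44 : k < 17090
  · exact chkList_get F R S st44 16834 st44_ok.1 k (by omega) (by rw [st44_ok.2]; omega)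
  by_cases c45 : k < 17346
  · exact chkList_get F R S st45 17090 st45_ok.1 k (by omega) (by rw [st45_ok.2]; omega)
  by_cases c46 : k < 17602
  · exact chkList_get F R S st46 17346 st46_ok.1 k (by omega) (by rw [st46_ok.2]; omega)
  by_cases c47 : k < 17858
  · exact chkList_get F R S st47 17602 st47_ok.1 k (by omega) (by rw [st47_ok.2]; omega)
  by_cases c48 : k < 18114
  · exact chkList_get F R S st48 17858 st48_ok.1 k (by omega) (by rw [st48_ok.2]; omega)
  by_cases c49 : k < 18370
  · exact chkList_get F R S st49 18114 st49_ok.1 k (by omega) (by rw [st49_ok.2]; omega)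
  by_cases c50 : k < 18626
  · exact chkList_get F R S st50 18370 st50_ok.1 k (by omega) (by rw [st50_ok.2]; omega)
  by_cases c51 : k < 18863
  · exact chkList_get F R S st51 18626 st51_ok.1 k (by omega) (by rw [st51_ok.2]; omega)
  omega

end H29.CosetCert.SuzData
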